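import Cfsg.Agent.HN.CentUp2
import Mathlib
import Cfsg.Agent.H568.RowTools_m3
import Cfsg.Agent.SigZeroHN.Main
import Cfsg.Agent.BiChar.HNFive
import Cfsg.Agent.HN.A12Group
import Cfsg.Agent.HN.Main
import Cfsg.Agent.KFacts.HN.Sheet
import Cfsg.Agent.FastGrp
import Cfsg.Agent.Prune
set_option linter.all false

section
prune_inst 0x7f00000000000000000000000000000000000000000000000000000000000000000000000000000000000000000000000000000000000000000000000000000000000000000000000000000000000000003fffffffffffffffffffffffffffbeffbdffffffff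

-- part: H173/RS/HNFacts
section
set_option linter.all false
open scoped Cfsg.Agent.FastGrp

-- part: H173/RS/Cert
section
set_option autoImplicit false

/-!
# `|C(g)| ≤ 28` for an element `g` of `H0 = 2.HS.2` (the involution centraliser of HN) of order 7 modulo the centre
(helper173)
-/

namespace Cfsg.Agent.H173.RS

open Cfsg.Agent.HN.Pres Cfsg.Agent.HN.HS100 Cfsg.Agent.HN.P1408 Cfsg.Agent.HN.H0Basic
open Cfsg.Agent.HN.CentUp Cfsg.Agent.HN.ColChain Cfsg.Agent.HN.Classes

/-- table for `c7` -/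
def c7V : List ℕ := [0x740582b8620be0b42905001a1442b02808e080130370200741281f0781601902b05809c1a06103618c2785c0600780d03e0761740e0390bc138258590620142481406c0bc1080e0aa0b80600000e0fc2d80408014c260480541680a8430c004c2501200c1500c0350021102080900402c2104d0100e0198230060a40c83d0440900504601e05c08845]

/-- chain for `c7` -/
def c7BS : List (ℕ × ℕ × ℕ × ℕ) := [
  (3, 14, 0x40000000400000004000000040000000d8000000400000004000000040000000400000004000000040000000400000004000000040000000400000007d0000004000000040000000400000004000000040000000400000004000000040000000400000004000000040000000400000004000000040000000400000004000000040000000400000007d0000004000000040000000400000007d00000040000000400000004000000040000000400000007d00000040000000400000004000000040000000400000007d0000004000000040000000d80000004000000040000000400000004000000040000000400000004000000040000000400000004000000040000000400000007d000000400000004000000040000000400000007d000000400000007d000000400000004000000040000000400000007d00000040000000400000007d00000040000000400000007d0000004000000040000000400000007d00000040000000400000007d000000400000004000000040000000400000007d000000400000004000000040,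 0x6740000007d0000007d),
  (33, 1, 0x7d0000007d000000400000004cc400004630800040000000400000007d0000007d00000040000000400000004cc400004cc400004000000040000000430c100040000000400000004cc40000400000007d0000007d000000400000004cc4000040000000400000004cc40000400000007d0000004cc400004cc400004cc4000040000000400000005033d0004cc40000400000007d000000430c10004cc40000400000004cc400007d000000400000005033d00040000000400000007d000000400000004000000081bf100040000000400000004630800040000000400000007d000000400000004cc400007d00000040000000400000007d0000007d0000007d0000007d000000430c100040000000400000004000000040000000430c10004000000081bf10004cc400007d0000004000000040000000430c1000400000004cc40000430c10004000000040000000fb89d00040000000400000004cc400005033d000400000004000000081bf10004cc400004cc400004000000040000000ac1c90007d0000004000000040000, 0x74a2e4000430c1000430c1),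
  (34, 1, 0x6f75c3205ca6bf2046535f9112935f904c56601077145f9077145f905ca6bf20a897bf2046535f9046535f9112935f91202c239046535f9046535f9049541fa0525f6390525f639112935f9046535f905ca6bf205ca6bf2046535f9112935f9046535f9046535f91202c239046535f90a897bf2112935f9112935f9112935f90525f639046535f914d0ddea149905f9046535f906f75c3207a2d52a112935f90525f639149905f905ca6bf2077145f9115f72ba046535f9046535f90a897bf2046535f90525f6390742e36f077145f9077145f904c566010525f639046535f906f75c32077145f91202c23905ca6bf20525f639046535f905ca6bf20a897bf206f75c3205ca6bf20932bf02046535f9046535f9046535f9077145f9049541fa046535f906157af31202c2390a897bf2046535f9046535f90b9627d6046535f91202c23905566276046535f9077145f9062e1aa50525f639046535f9149905f914d0ddea046535f9046535f90742e36f149905f91202c239046535f9046535f92f853c730a897bf2046535f9046535f9, 0xbb0f84f905ca6bf2046535f9)]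

/-- last table for `c7` -/
def c7T : ℕ := 0x2abde6ee37b3d32502c53bbe117f21c3272d71bf1a664c072dae1e3237b3d3252d070ba833a8010f02c53bbe117f21c3152bc0511000dde93843d36a32c5fbbf0214a07d2eda89fe117f21c302c53bbe37b3d32537b3d3253843d36a117f21c302c53bbe02c53bbe29315c2d02c53bbe2d070ba832d42561117f21c332d42561025c9d2202c53bbe08d228a90c6f740a02c53bbe3b19ee62239d2f68377b83ee2ef2fc591bcce34f04f150921a664c070c1523bd1000dde902c53bbe05fbc43402c53bbe2ef2fc593a9c3da82c7d19ac2dae1e322ee8fadf2ef2fc5902c53bbe2abde6ee1a664c0701b028e837b3d3250214a07d02c53bbe37b3d32505fbc4342abde6ee004926d819c095940a44ba8e02c53bbe1000dde91a664c072cc1cc9402c53bbe147579bc29315c2d05fbc43402c53bbe1000dde90fc39b5802c53bbe154f55c4327b977a02c53bbe048bb0d002df83782ef2fc5902c53bbe1bcce34f178505101000dde902c53bbe0f7b96451bcce34f29315c2d3843d36a1000dde92b3dab5b05fbc43402c53bbe02c53bbe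

/-- ranks for `c7` -/
def c7R : ℕ := 0x220c82c0470a61842280900017c1d816058080188080b8154300410380401c04a0881301505000e1440a0250080f01b03d0ba0080f84009a0d00c8460b416c218180500540304e09e0e8178540240fc0085200a0dc1083001e034310480ac15c0d04b0260ac1c80a05a0f81700c0360742f0260c608c0b80e0840901100b06a0a42c84906600c1381e

/-- order for `c7` -/
def c7O : ℕ := 0x1e0842f0510b40441f85306c0dc0286103c07c2902c0be0a02304805e0c01d84a038130020200c00e02e84b06a02c2803c054058200420b20b80c84d04c1040383a0061882a82405a0540b857034124030330020402200a01c0241285607a0000904f0260741c83401a160190450360ac3184e046030110140100602e05408e0c4138430040f81485b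

/-- the word -/
def w7 : List ℕ := [0, 2, 2, 4, 2, 4]

theorem c7_le : Nat.card (cenA [w7]) ≤ 14 :=
  card_cenA_le (VS := c7V) (bs := c7BS) (T := c7T) (R := c7R) (O := c7O) (by decide +kernel) (by decide +kernel)

/-- `|C(g)| ≤ 28`. -/
theorem card_centralizer_w7_le : Nat.card (Subgroup.centralizer ({hw w7} : Set H0)) ≤ 28 := by
  have h := card_centralizer_le c7_le
  rwa [wset_singleton] at h

end Cfsg.Agent.H173.RS
end

-- part: H173/RS/StrEmb
section
/-!
# A strongly embedded subgroup of order 60 (helper173)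

`eq_top_of_small` : `B ≤ Y`, `|B| = 60`, `B` contains the centralisers (of order at most 4) of its involutions, it has at
most 15 involutions and its subgroups of odd order have order at most 5. Then `B = Y`.
-/

set_option autoImplicit false

namespace Cfsg.Agent.H173.RS

open Subgroup

/-- an involution normalising a subgroup of even order centralises an involution of it -/
theorem exists_fixed {G : Type*} [Group G] [Finite G] (W : Subgroup G) (hW : Even (Nat.card W)) {k : G}
    (hk : k * k = 1) (hn : ∀ w ∈ W, k * w * k ∈ W) : ∃ w ∈ W, w ≠ 1 ∧ w * w = 1 ∧ k * w = w * k := by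
  classical
  have : Fact (Nat.Prime 2) := ⟨Nat.prime_two⟩
  cases nonempty_fintype G
  let f1 : Function.End ↥W := fun w => w⁻¹
  have h1 : f1 ^ 2 ^ 1 = 1 := by
    rw [pow_one, pow_two]
    funext w
    exact inv_inv w
  have e1 := Equiv.Perm.card_fixedPoints_modEq h1
  let f2 : Function.End ↥(Function.fixedPoints f1) := fun w =>
    ⟨⟨k * (w : ↥W) * k, hn _ (w : ↥W).2⟩, by
      rw [Function.mem_fixedPoints_iff]
      have h2 : ((w : ↥W) : G)⁻¹ = ((w : ↥W) : G) := congrArg Subtype.val (Function.mem_fixedPoints_iff.1 w.2)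
      apply Subtype.ext
      change (k * ((w : ↥W) : G) * k)⁻¹ = k * (w : ↥W) * k
      rw [mul_inv_rev, mul_inv_rev, h2, inv_eq_of_mul_eq_one_left hk, mul_assoc]⟩
  have h2 : f2 ^ 2 ^ 1 = 1 := by
    rw [pow_one, pow_two]
    funext w
    apply Subtype.ext
    apply Subtype.ext
    change k * (k * ((w : ↥W) : G) * k) * k = (w : ↥W)
    calc k * (k * ((w : ↥W) : G) * k) * k = (k * k) * (w : ↥W) * (k * k) := by group
      _ = (w : ↥W) := by rw [hk, one_mul, mul_one]
  have e2 := Equiv.Perm.card_fixedPoints_modEq h2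
  rw [Nat.card_eq_fintype_card] at hW
  have h3 : 2 ∣ Fintype.card (Function.fixedPoints f2) := by
    have h4 := (e1.trans e2)
    exact (Nat.modEq_zero_iff_dvd.1 (h4.symm.trans (Nat.modEq_zero_iff_dvd.2 hW.two_dvd)))
  let o : Function.fixedPoints f2 := ⟨⟨1, by
    rw [Function.mem_fixedPoints_iff]; exact inv_one⟩, by
    rw [Function.mem_fixedPoints_iff]
    apply Subtype.ext
    apply Subtype.ext
    change k * 1 * k = 1
    rw [mul_one, hk]⟩
  have h5 : 1 < Fintype.card (Function.fixedPoints f2) := by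
    have h6 : 0 < Fintype.card (Function.fixedPoints f2) := Fintype.card_pos_iff.2 ⟨o⟩
    omega
  obtain ⟨w, hw⟩ := Fintype.exists_ne_of_one_lt_card h5 o
  refine ⟨((w : ↥(Function.fixedPoints f1)) : ↥W), ((w : ↥(Function.fixedPoints f1)) : ↥W).2, ?_, ?_, ?_⟩
  · intro h
    exact hw (Subtype.ext (Subtype.ext (Subtype.ext h)))
  · have h7 : (((w : ↥(Function.fixedPoints f1)) : ↥W) : G)⁻¹ = ((w : ↥(Function.fixedPoints f1)) : ↥W) :=
      congrArg Subtype.val (Function.mem_fixedPoints_iff.1 (w : ↥(Function.fixedPoints f1)).2)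
    nth_rw 1 [← h7]
    exact inv_mul_cancel _
  · have h8 : k * (((w : ↥(Function.fixedPoints f1)) : ↥W) : G) * k = ((w : ↥(Function.fixedPoints f1)) : ↥W) :=
      congrArg (fun x : ↥(Function.fixedPoints f1) => ((x : ↥W) : G)) (Function.mem_fixedPoints_iff.1 w.2)
    calc k * (((w : ↥(Function.fixedPoints f1)) : ↥W) : G) =
        k * ((w : ↥(Function.fixedPoints f1)) : ↥W) * k * k := by rw [mul_assoc _ k k, hk, mul_one]
      _ = _ := by rw [h8]

variable {Y : Type*} [Group Y] [Finite Y]

/-- the class of an involution -/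
theorem index_le (i : Y) (hi : orderOf i = 2) :
    (centralizer ({i} : Set Y)).index ≤ Nat.card {y : Y // orderOf y = 2} := by
  let f : Y ⧸ centralizer ({i} : Set Y) → {y : Y // orderOf y = 2} := fun q =>
    Quotient.liftOn' q (fun g => ⟨g * i * g⁻¹, by rw [← hi]; exact MulEquiv.orderOf_eq (MulAut.conj g) i⟩)
      (fun a b hab => by
        rw [QuotientGroup.leftRel_apply, mem_centralizer_singleton_iff] at hab
        apply Subtype.ext
        change a * i * a⁻¹ = b * i * b⁻¹
        calc a * i * a⁻¹ = a * (i * (a⁻¹ * b)) * b⁻¹ := by group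
          _ = a * (a⁻¹ * b * i) * b⁻¹ := by rw [hab]
          _ = b * i * b⁻¹ := by group)
  refine Nat.card_le_card_of_injective f ?_
  intro q q' h
  induction q using QuotientGroup.induction_on with
  | H a =>
    induction q' using QuotientGroup.induction_on with
    | H b =>
      have h1 : a * i * a⁻¹ = b * i * b⁻¹ := congrArg Subtype.val h
      rw [QuotientGroup.eq, mem_centralizer_singleton_iff]
      calc a⁻¹ * b * i = a⁻¹ * (b * i * b⁻¹) * b := by group
        _ = a⁻¹ * (a * i * a⁻¹) * b := by rw [h1]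
        _ = i * (a⁻¹ * b) := by group

/-- **A strongly embedded subgroup of order 60.** -/
theorem eq_top_of_small (B : Subgroup Y) (hB : Nat.card B = 60)
    (hinv : Nat.card {b : Y // b ∈ B ∧ orderOf b = 2} ≤ 15)
    (hcen : ∀ b ∈ B, orderOf b = 2 → centralizer ({b} : Set Y) ≤ B)
    (hodd : ∀ W : Subgroup Y, W ≤ B → Odd (Nat.card W) → Nat.card W ≤ 5)
    {i : Y} (hi : orderOf i = 2) (hci : Nat.card (centralizer ({i} : Set Y)) ≤ 4) : B = ⊤ := by
  classical
  cases nonempty_fintype Y
  have : Fintype (Y ⧸ B) := Fintype.ofFinite _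
  -- the fibres
  have hfib : ∀ c : Y ⧸ B, c ≠ ((1 : Y) : Y ⧸ B) →
      (Finset.univ.filter (fun y : Y => orderOf y = 2 ∧ (y : Y ⧸ B) = c)).card ≤ 5 := by
    intro c hc
    rcases (Finset.univ.filter (fun y : Y => orderOf y = 2 ∧ (y : Y ⧸ B) = c)).eq_empty_or_nonempty with h0 | ⟨k, hk⟩
    · rw [h0, Finset.card_empty]; norm_num
    · rw [Finset.mem_filter] at hk
      obtain ⟨-, hk2, hkc⟩ := hk
      have hkk : k * k = 1 := by rw [← pow_two, ← hk2, pow_orderOf_eq_one]
      have hkB : k ∉ B := by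
        intro h
        apply hc
        rw [← hkc, QuotientGroup.eq, mul_one]
        exact B.inv_mem h
      let W : Subgroup Y :=
        { carrier := {b | b ∈ B ∧ k * b * k ∈ B}
          one_mem' := ⟨B.one_mem, by rw [mul_one, hkk]; exact B.one_mem⟩
          mul_mem' := by
            rintro a b ⟨ha, ha'⟩ ⟨hb, hb'⟩
            refine ⟨B.mul_mem ha hb, ?_⟩
            have h : k * (a * b) * k = (k * a * k) * (k * b * k) := by
              calc k * (a * b) * k = k * a * 1 * b * k := by group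
                _ = k * a * (k * k) * b * k := by rw [hkk]
                _ = _ := by group
            rw [h]
            exact B.mul_mem ha' hb'
          inv_mem' := by
            rintro a ⟨ha, ha'⟩
            refine ⟨B.inv_mem ha, ?_⟩
            have h : k * a⁻¹ * k = (k * a * k)⁻¹ := by
              rw [mul_inv_rev, mul_inv_rev, inv_eq_of_mul_eq_one_left hkk, mul_assoc]
            rw [h]
            exact B.inv_mem ha' }
      have hWB : W ≤ B := fun b hb => hb.1
      have hWodd : Odd (Nat.card W) := by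
        rw [← Nat.not_even_iff_odd]
        intro he
        obtain ⟨w, hw, hw1, hw2, hw3⟩ := exists_fixed W he hkk (fun w hw => ⟨hw.2, by
          have h : k * (k * w * k) * k = w := by
            calc k * (k * w * k) * k = (k * k) * w * (k * k) := by group
              _ = w := by rw [hkk, one_mul, mul_one]
          rw [h]; exact hw.1⟩)
        have hwo : orderOf w = 2 := orderOf_eq_prime (by rw [pow_two, hw2]) hw1
        exact hkB (hcen w (hWB hw) hwo (mem_centralizer_singleton_iff.2 hw3))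
      refine le_trans ?_ (hodd W hWB hWodd)
      rw [← Fintype.card_coe, ← Nat.card_eq_fintype_card]
      refine Nat.card_le_card_of_injective (fun y => (⟨k * (y : Y), ?_⟩ : ↥W)) ?_
      · have hy := y.2
        rw [Finset.mem_filter] at hy
        obtain ⟨-, hy2, hyc⟩ := hy
        have hyy : (y : Y) * y = 1 := by
          rw [← pow_two]
          exact orderOf_dvd_iff_pow_eq_one.1 (dvd_of_eq hy2)
        have h1 : k * (y : Y) ∈ B := by
          have h2 : k⁻¹ * (y : Y) ∈ B := by
            rw [← QuotientGroup.eq, hkc, hyc]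
          rwa [inv_eq_of_mul_eq_one_left hkk] at h2
        refine ⟨h1, ?_⟩
        have h3 : k * (k * (y : Y)) * k = (k * (y : Y))⁻¹ := by
          rw [mul_inv_rev, inv_eq_of_mul_eq_one_left hkk, inv_eq_of_mul_eq_one_left hyy, ← mul_assoc, hkk, one_mul]
        rw [h3]
        exact B.inv_mem h1
      · intro y y' h
        have h1 : k * (y : Y) = k * (y' : Y) := congrArg Subtype.val h
        exact Subtype.ext (mul_left_cancel h1)
  have hone : (Finset.univ.filter (fun y : Y => orderOf y = 2 ∧ (y : Y ⧸ B) = ((1 : Y) : Y ⧸ B))).card ≤ 15 := by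
    refine le_trans (le_of_eq ?_) hinv
    rw [← Fintype.card_coe, ← Nat.card_eq_fintype_card]
    refine Nat.card_congr (Equiv.subtypeEquivRight fun y => ?_)
    rw [Finset.mem_filter]
    have h1 : ((y : Y ⧸ B) = ((1 : Y) : Y ⧸ B)) ↔ y ∈ B := by
      rw [eq_comm, QuotientGroup.eq, inv_one, one_mul]
    rw [h1]
    simp [and_comm]
  have hsum : Nat.card {y : Y // orderOf y = 2} ≤ 15 + (Fintype.card (Y ⧸ B) - 1) * 5 := by
    have h1 : Nat.card {y : Y // orderOf y = 2} = (Finset.univ.filter (fun y : Y => orderOf y = 2)).card := by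
      rw [Nat.card_eq_fintype_card, Fintype.card_subtype]
    rw [h1, Finset.card_eq_sum_card_fiberwise (f := fun y : Y => (y : Y ⧸ B)) (t := Finset.univ)
      (fun _ _ => Finset.mem_coe.2 (Finset.mem_univ _))]
    rw [← Finset.add_sum_erase _ _ (Finset.mem_univ ((1 : Y) : Y ⧸ B))]
    refine add_le_add ?_ ?_
    · rw [Finset.filter_filter]
      exact hone
    · refine (Finset.sum_le_card_nsmul _ _ 5 ?_).trans ?_
      · intro c hc
        rw [Finset.filter_filter]
        exact hfib c (Finset.ne_of_mem_erase hc)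
      · rw [Finset.card_erase_of_mem (Finset.mem_univ _), Finset.card_univ, smul_eq_mul]
  have hidx := index_le i hi
  have h2 := (centralizer ({i} : Set Y)).card_mul_index
  have h3 := B.card_mul_index
  have h4 : B.index = Fintype.card (Y ⧸ B) := by rw [Subgroup.index, Nat.card_eq_fintype_card]
  rw [hB] at h3
  rw [← h4] at hsum
  have h5 : B.index ≠ 0 := B.index_ne_zero_of_finite
  have h6 : 15 * B.index ≤ (centralizer ({i} : Set Y)).index := by
    have h7 : 60 * B.index ≤ 4 * (centralizer ({i} : Set Y)).index := by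
      rw [h3, ← h2]
      exact Nat.mul_le_mul_right _ hci
    omega
  have h8 : B.index = 1 := by omega
  exact Subgroup.index_eq_one.1 h8

end Cfsg.Agent.H173.RS
end

-- part: H173/RS/A5
section
/-!
# `A₅` with small involution centralisers (helper173)

`surjective_of_small` : an injective homomorphism `A₅ → Y` is surjective if the involutions of `Y` have centralisers of
order at most 4.
-/

set_option autoImplicit false

namespace Cfsg.Agent.H173.RS

open Subgroup

/-- the alternating group of degree 5 -/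
abbrev A5 := alternatingGroup (Fin 5)

theorem card_A5 : Nat.card A5 = 60 := by
  rw [nat_card_alternatingGroup, Nat.card_eq_fintype_card, Fintype.card_fin]
  decide

theorem card_inv : Nat.card {b : A5 // orderOf b = 2} ≤ 15 := by
  have h1 : Nat.card {b : A5 // orderOf b = 2} = Nat.card {b : A5 // b * b = 1 ∧ b ≠ 1} := by
    refine Nat.card_congr (Equiv.subtypeEquivRight fun b => ?_)
    rw [orderOf_eq_prime_iff, pow_two]
  rw [h1, Nat.card_eq_fintype_card]
  decide +kernel

/-- the subgroups of odd order of `A₅` -/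
theorem odd_le (W : Subgroup A5) (h : Odd (Nat.card W)) : Nat.card W ≤ 5 := by
  classical
  by_contra hcon
  have h1 := W.card_mul_index
  rw [card_A5] at h1
  have h2 : Nat.card W ∣ 15 := by
    have h3 : Nat.card W ∣ 4 * 15 := Dvd.intro _ h1
    exact (Nat.Coprime.dvd_of_dvd_mul_left (Nat.Coprime.pow_right 2 (Nat.coprime_two_right.2 h) :
      Nat.Coprime (Nat.card W) (2 ^ 2)) h3)
  have h4 : Nat.card W = 15 := by
    have h5 : Nat.card W ≤ 15 := Nat.le_of_dvd (by norm_num) h2
    interval_cases h6 : Nat.card W <;> first | rfl | (exfalso; revert h2; decide)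
  have h5 : W.index = 4 := by rw [h4] at h1; omega
  have hfin : Fintype (A5 ⧸ W) := Fintype.ofFinite _
  have h6 : (MulAction.toPermHom A5 (A5 ⧸ W)).ker = ⊥ := by
    rcases (inferInstance : (MulAction.toPermHom A5 (A5 ⧸ W)).ker.Normal).eq_bot_or_eq_top with h | h
    · exact h
    · exfalso
      have h7 : W = ⊤ := by
        rw [eq_top_iff]
        intro x _
        have h8 : x ∈ (MulAction.toPermHom A5 (A5 ⧸ W)).ker := h ▸ mem_top x
        rw [MonoidHom.mem_ker] at h8
        have h9 := congrArg (fun f : Equiv.Perm (A5 ⧸ W) => f ((1 : A5) : A5 ⧸ W)) h8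
        have h10 : ((x * 1 : A5) : A5 ⧸ W) = ((1 : A5) : A5 ⧸ W) := h9
        rw [mul_one, eq_comm, QuotientGroup.eq, inv_one, one_mul] at h10
        exact h10
      rw [h7, index_top] at h5
      omega
  have h7 : Function.Injective (MulAction.toPermHom A5 (A5 ⧸ W)) := (MonoidHom.ker_eq_bot_iff _).1 h6
  have h8 := Nat.card_le_card_of_injective _ h7
  rw [card_A5, Nat.card_eq_fintype_card, Fintype.card_perm, ← Nat.card_eq_fintype_card] at h8
  have h9 : Nat.card (A5 ⧸ W) = 4 := h5
  rw [h9] at h8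
  exact absurd h8 (by decide)

/-- the centralisers of the involutions of `A₅` -/
theorem four_le {b : A5} (hb : orderOf b = 2) : 4 ≤ Nat.card (centralizer ({b} : Set A5)) := by
  have : Fact (Nat.Prime 2) := ⟨Nat.prime_two⟩
  have h1 : IsPGroup 2 ↥(zpowers b) := IsPGroup.of_card (n := 1) (by rw [Nat.card_zpowers, hb, pow_one])
  obtain ⟨S, hS⟩ := h1.exists_le_sylow
  have h2 : Nat.card ↥(S : Subgroup A5) = 2 ^ 2 := by
    rw [S.card_eq_multiplicity, card_A5]
    congr 1
    rw [show (60 : ℕ) = 2 ^ 2 * 15 by norm_num, Nat.factorization_mul (by norm_num) (by norm_num),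
      Nat.Prime.factorization_pow Nat.prime_two, Finsupp.add_apply,
      Nat.factorization_eq_zero_of_not_dvd (show ¬ 2 ∣ 15 by norm_num), Finsupp.single_eq_same]
  have h3 : IsMulCommutative ↥(S : Subgroup A5) := IsPGroup.isMulCommutative_of_card_eq_prime_sq h2
  have h4 : (S : Subgroup A5) ≤ centralizer ({b} : Set A5) := by
    intro x hx
    rw [mem_centralizer_singleton_iff]
    have h5 := h3.is_comm.comm (⟨x, hx⟩ : ↥(S : Subgroup A5)) ⟨b, hS (mem_zpowers b)⟩
    exact congrArg Subtype.val h5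
  have h5 := Subgroup.card_le_of_le h4
  omega

/-- **`A₅` with small involution centralisers.** -/
theorem surjective_of_small {Y : Type*} [Group Y] [Finite Y] (g : A5 →* Y) (hg : Function.Injective g)
    (hc : ∀ i : Y, orderOf i = 2 → Nat.card (centralizer ({i} : Set Y)) ≤ 4) : Function.Surjective g := by
  have hB : Nat.card g.range = 60 := by rw [← card_A5]; exact (Nat.card_congr (MonoidHom.ofInjective hg).toEquiv).symm
  have key : g.range = ⊤ := by
    -- an involution
    obtain ⟨b, hb⟩ : ∃ b : A5, orderOf b = 2 := by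
      have : Fact (Nat.Prime 2) := ⟨Nat.prime_two⟩
      exact exists_prime_orderOf_dvd_card' 2 (by rw [card_A5]; norm_num)
    have hgb : orderOf (g b) = 2 := by rw [orderOf_injective g hg, hb]
    refine eq_top_of_small g.range hB ?_ ?_ ?_ hgb (hc _ hgb)
    · refine le_trans ?_ card_inv
      refine Nat.card_le_card_of_surjective (fun b : {b : A5 // orderOf b = 2} =>
        (⟨g b, ⟨b, rfl⟩, by rw [orderOf_injective g hg, b.2]⟩ : {y : Y // y ∈ g.range ∧ orderOf y = 2})) ?_
      rintro ⟨_, ⟨b, rfl⟩, hb⟩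
      exact ⟨⟨b, by rwa [orderOf_injective g hg] at hb⟩, rfl⟩
    · rintro _ ⟨b, rfl⟩ hb
      have hb' : orderOf b = 2 := by rwa [orderOf_injective g hg] at hb
      have h1 : (centralizer ({b} : Set A5)).map g ≤ centralizer ({g b} : Set Y) := by
        rintro _ ⟨x, hx, rfl⟩
        have h2 := mem_centralizer_singleton_iff.1 hx
        rw [mem_centralizer_singleton_iff, ← map_mul, ← map_mul, h2]
      have h2 : Nat.card ↥((centralizer ({b} : Set A5)).map g) = Nat.card (centralizer ({b} : Set A5)) :=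
        Subgroup.card_map_of_injective hg
      have h3 : (centralizer ({b} : Set A5)).map g = centralizer ({g b} : Set Y) :=
        Subgroup.eq_of_le_of_card_ge h1 (by rw [h2]; exact (hc _ hb).trans (four_le hb'))
      rw [← h3]
      rintro _ ⟨x, -, rfl⟩
      exact ⟨x, rfl⟩
    · intro W hW ho
      have h1 : W = (W.comap g).map g := by
        rw [map_comap_eq, inf_eq_right.2 hW]
      have h2 : Nat.card W = Nat.card (W.comap g) := by
        conv_lhs => rw [h1]
        exact Subgroup.card_map_of_injective hg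
      rw [h2] at ho ⊢
      exact odd_le _ ho
  exact MonoidHom.range_eq_top.1 key

end Cfsg.Agent.H173.RS
end

-- part: H173/RS/Alt
section
/-!
# A 7-cycle commuting with `A₅`, and a nonabelian 3-subgroup, in `A₁₂` (helper173)
-/

set_option autoImplicit false

namespace Cfsg.Agent.H173.RS

open Subgroup Equiv

/-- a `p`-group generated by `a`, `b` with central commutator `c` -/
theorem exists_pgroup {G : Type*} [Group G] {p : ℕ} [Fact p.Prime] {a b c : G} (ha : a ^ p = 1) (hb : b ^ p = 1)
    (hc : c ^ p = 1) (hac : a * c = c * a) (hbc : b * c = c * b) (hab : b * a * b⁻¹ = a * c) :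
    ∃ P : Subgroup G, IsPGroup p P ∧ a ∈ P ∧ b ∈ P := by
  have hz : ∀ x : G, x ^ p = 1 → IsPGroup p ↥(zpowers x) := by
    intro x hx
    rintro ⟨y, hy⟩
    obtain ⟨m, rfl⟩ := hy
    refine ⟨1, Subtype.ext ?_⟩
    change (x ^ m) ^ p ^ 1 = 1
    rw [pow_one, ← zpow_natCast, ← zpow_mul, mul_comm, zpow_mul, zpow_natCast, hx, one_zpow]
  have h1 : zpowers c ≤ normalizer ((zpowers a : Subgroup G) : Set G) := by
    rw [zpowers_le]
    refine centralizer_le_normalizer _ ?_
    rw [mem_centralizer_iff]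
    rintro _ ⟨m, rfl⟩
    exact ((show Commute a c from hac).zpow_left m).eq
  have hN := (hz c hc).to_sup_of_normal_right' (hz a ha) h1
  have h2 : zpowers b ≤ normalizer ((zpowers c ⊔ zpowers a : Subgroup G) : Set G) := by
    rw [zpowers_le, mem_normalizer_iff_map_conj_eq, Subgroup.map_sup, MonoidHom.map_zpowers, MonoidHom.map_zpowers]
    have e1 : ((MulAut.conj b : MulAut G) : G →* G) c = c := by
      change b * c * b⁻¹ = c
      rw [hbc, mul_inv_cancel_right]
    have e2 : ((MulAut.conj b : MulAut G) : G →* G) a = a * c := hab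
    rw [e1, e2]
    apply le_antisymm
    · refine sup_le le_sup_left ?_
      rw [zpowers_le]
      exact mul_mem ((le_sup_right : zpowers a ≤ _) (mem_zpowers a)) ((le_sup_left : zpowers c ≤ _) (mem_zpowers c))
    · refine sup_le le_sup_left ?_
      rw [zpowers_le]
      have h3 : a * c ∈ zpowers c ⊔ zpowers (a * c) := (le_sup_right : zpowers (a * c) ≤ _) (mem_zpowers _)
      have h4 : c ∈ zpowers c ⊔ zpowers (a * c) := (le_sup_left : zpowers c ≤ _) (mem_zpowers _)
      have h5 := mul_mem h3 (inv_mem h4)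
      rwa [mul_inv_cancel_right] at h5
  refine ⟨zpowers b ⊔ (zpowers c ⊔ zpowers a), (hz b hb).to_sup_of_normal_right' hN h2, ?_, ?_⟩
  · exact (le_sup_right : zpowers c ⊔ zpowers a ≤ _) ((le_sup_right : zpowers a ≤ _) (mem_zpowers a))
  · exact (le_sup_left : zpowers b ≤ _) (mem_zpowers b)

theorem exists_pgroup_mem {G : Type*} [Group G] (H : Subgroup G) {p : ℕ} [Fact p.Prime] {a b c : G} (haH : a ∈ H)
    (hbH : b ∈ H) (hcH : c ∈ H) (ha : a ^ p = 1) (hb : b ^ p = 1)
    (hc : c ^ p = 1) (hac : a * c = c * a) (hbc : b * c = c * b) (hab : b * a * b⁻¹ = a * c) (hne : a * b ≠ b * a) :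
    ∃ P : Subgroup H, IsPGroup p P ∧ ∃ x ∈ P, ∃ y ∈ P, x * y ≠ y * x := by
  obtain ⟨P, hP, ha, hb⟩ := exists_pgroup (G := H) (p := p) (a := ⟨a, haH⟩)
    (b := ⟨b, hbH⟩) (c := ⟨c, hcH⟩) (Subtype.ext ha) (Subtype.ext hb) (Subtype.ext hc) (Subtype.ext hac)
    (Subtype.ext hbc) (Subtype.ext hab)
  exact ⟨P, hP, _, ha, _, hb, fun h => hne (congrArg Subtype.val h)⟩

/-- the alternating group on `7 + 5` points -/
abbrev A12 := alternatingGroup (Fin 7 ⊕ Fin 5)

/-- a 7-cycle -/
def c7 : A12 := ⟨Perm.sumCongr (finRotate 7) 1, by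
  rw [Perm.mem_alternatingGroup, Perm.sign_sumCongr]
  decide⟩

theorem c7_pow : c7 ^ 7 = 1 := by
  apply Subtype.ext
  change (Perm.sumCongr (finRotate 7) 1 : Perm (Fin 7 ⊕ Fin 5)) ^ 7 = 1
  decide +kernel

theorem c7_ne : c7 ≠ 1 := by
  intro h
  have h1 : (Perm.sumCongr (finRotate 7) 1 : Perm (Fin 7 ⊕ Fin 5)) = 1 := congrArg Subtype.val h
  revert h1
  decide +kernel

theorem orderOf_c7 : orderOf c7 = 7 :=
  have : Fact (Nat.Prime 7) := ⟨by norm_num⟩
  orderOf_eq_prime c7_pow c7_ne

/-- `A₅` on the other points -/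
def e5 : A5 →* A12 :=
  (((Perm.sumCongrHom (Fin 7) (Fin 5)).comp ((MonoidHom.inr _ _).comp (alternatingGroup (Fin 5)).subtype))).codRestrict
    (alternatingGroup (Fin 7 ⊕ Fin 5)) (by
      intro σ
      rw [Perm.mem_alternatingGroup]
      change Perm.sign (Perm.sumCongr 1 (σ : Perm (Fin 5))) = 1
      rw [Perm.sign_sumCongr, Perm.sign_one, one_mul]
      exact σ.2)

theorem e5_injective : Function.Injective e5 := by
  intro σ σ' h
  have h1 : (Perm.sumCongr 1 (σ : Perm (Fin 5)) : Perm (Fin 7 ⊕ Fin 5)) = Perm.sumCongr 1 (σ' : Perm (Fin 5)) :=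
    congrArg Subtype.val h
  apply Subtype.ext
  apply Equiv.ext
  intro i
  have h2 := congrArg (fun f : Perm (Fin 7 ⊕ Fin 5) => f (Sum.inr i)) h1
  exact Sum.inr_injective h2

theorem c7_comm (σ : A5) : c7 * e5 σ = e5 σ * c7 := by
  apply Subtype.ext
  change Perm.sumCongr (finRotate 7) 1 * Perm.sumCongr 1 (σ : Perm (Fin 5)) =
    Perm.sumCongr 1 (σ : Perm (Fin 5)) * Perm.sumCongr (finRotate 7) 1
  rw [Perm.sumCongr_mul, Perm.sumCongr_mul, mul_one, one_mul, one_mul, mul_one]

/-- permutation of order 3 -/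
def pa : Perm (Fin 12) := c[0, 1, 2] * c[3, 5, 4]
/-- permutation of order 3 -/
def pb : Perm (Fin 12) := c[0, 3, 6] * c[1, 4, 7] * c[2, 5, 8]
/-- permutation of order 3 -/
def pc : Perm (Fin 12) := c[0, 2, 1] * c[3, 5, 4] * c[6, 8, 7]

theorem pa_mem : pa ∈ alternatingGroup (Fin 12) := by rw [Perm.mem_alternatingGroup]; decide +kernel
theorem pb_mem : pb ∈ alternatingGroup (Fin 12) := by rw [Perm.mem_alternatingGroup]; decide +kernel
theorem pc_mem : pc ∈ alternatingGroup (Fin 12) := by rw [Perm.mem_alternatingGroup]; decide +kernel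
theorem pa3 : pa ^ 3 = 1 := by decide +kernel
theorem pb3 : pb ^ 3 = 1 := by decide +kernel
theorem pc3 : pc ^ 3 = 1 := by decide +kernel
theorem pac : pa * pc = pc * pa := by decide +kernel
theorem pbc : pb * pc = pc * pb := by decide +kernel
theorem pab : pb * pa * pb⁻¹ = pa * pc := by decide +kernel
theorem pne : pa * pb ≠ pb * pa := by decide +kernel

/-- noncommuting elements of a 3-subgroup of `A₁₂` -/
theorem exists_three : ∃ P : Subgroup (alternatingGroup (Fin 12)), IsPGroup 3 P ∧ ∃ a ∈ P, ∃ b ∈ P, a * b ≠ b * a := by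
  have : Fact (Nat.Prime 3) := ⟨Nat.prime_three⟩
  exact exists_pgroup_mem _ pa_mem pb_mem pc_mem pa3 pb3 pc3 pac pbc pab pne

end Cfsg.Agent.H173.RS
end

-- part: H173/RS/NN
section
/-!
# An element of order `7 q` normalising no `p`-subgroup (helper173)
-/

set_option autoImplicit false

namespace Cfsg.Agent.H173.RS

open Subgroup Cfsg.Agent.H568

variable {K : Type*} [Group K] [Finite K] {p l : ℕ}

/-- Fixed point free action of `u` of prime order `l` on `Q`: `l ∣ |Q| - 1`. -/
theorem dvd_card_sub_one [hl : Fact l.Prime] {u : K} (hu : orderOf u = l) {Q : Subgroup K}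
    (hn : u ∈ normalizer (Q : Set K)) (hfix : ∀ y ∈ Q, u * y = y * u → y = 1) : l ∣ Nat.card Q - 1 := by
  classical
  have hn' : zpowers u ≤ normalizer (Q : Set K) := by rwa [zpowers_le]
  let act : MulAction ↥(zpowers u) ↥Q :=
    { smul := fun z y => ⟨(z : K) * y * (z : K)⁻¹, (mem_normalizer_iff.1 (hn' z.2) y).1 y.2⟩
      one_smul := fun y => Subtype.ext (by show ((1 : ↥(zpowers u)) : K) * y * ((1 : ↥(zpowers u)) : K)⁻¹ = y; simp)
      mul_smul := fun z z' y => Subtype.ext (by
        show ((z * z' : ↥(zpowers u)) : K) * y * ((z * z' : ↥(zpowers u)) : K)⁻¹ =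
          (z : K) * ((z' : K) * y * (z' : K)⁻¹) * (z : K)⁻¹
        simp [mul_assoc]) }
  have hsm : ∀ (z : ↥(zpowers u)) (y : ↥Q), ((z • y : ↥Q) : K) = (z : K) * y * (z : K)⁻¹ := fun _ _ => rfl
  have hlg : IsPGroup l ↥(zpowers u) := IsPGroup.of_card (n := 1) (by rw [Nat.card_zpowers, hu, pow_one])
  have h1 := hlg.card_modEq_card_fixedPoints (↥Q)
  have h2 : Nat.card (MulAction.fixedPoints ↥(zpowers u) ↥Q) = 1 := by
    rw [Nat.card_eq_one_iff_unique]
    refine ⟨⟨?_⟩, ⟨⟨1, ?_⟩⟩⟩
    · have h3 : ∀ y : MulAction.fixedPoints ↥(zpowers u) ↥Q, ((y : ↥Q) : K) = 1 := by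
        rintro ⟨y, hy⟩
        have h4 := congrArg Subtype.val (hy ⟨u, mem_zpowers u⟩)
        rw [hsm] at h4
        exact hfix _ y.2 (mul_inv_eq_iff_eq_mul.1 h4)
      intro y y'
      exact Subtype.ext (Subtype.ext ((h3 y).trans (h3 y').symm))
    · intro z
      exact Subtype.ext (by rw [hsm]; simp)
  rw [h2] at h1
  exact (Nat.modEq_iff_dvd' Nat.card_pos).1 h1.symm

/-- **`u v` normalises no `p`-subgroup.** -/
theorem noNorm_mul [hp : Fact p.Prime] [hl : Fact l.Prime] {u v : K} (hu : orderOf u = l) (huv : u * v = v * u)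
    (hcop : Nat.Coprime (orderOf u) (orderOf v))
    (h1 : ∀ R : Subgroup K, IsPGroup p R → (∀ r ∈ R, u * r = r * u) → v ∈ normalizer (R : Set K) → R = ⊥)
    (h2 : ∀ k : ℕ, p ^ k ∣ Nat.card K → l ∣ p ^ k - 1 → k = 0 ∨ k = (Nat.card K).factorization p)
    {P : Subgroup K} (hP : IsPGroup p P) {a b : K} (ha : a ∈ P) (hb : b ∈ P) (hab : a * b ≠ b * a) :
    NoNorm p (u * v) := by
  intro Q hQ hn
  -- `u` and `v` are powers of `u v`
  have hcomm : Commute u v := huv
  have hmu : ∃ m : ℕ, (u * v) ^ m = u := by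
    obtain ⟨m, hm1, hm2⟩ := Nat.chineseRemainder hcop 1 0
    refine ⟨m, ?_⟩
    rw [hcomm.mul_pow]
    have e1 : u ^ m = u ^ 1 := pow_eq_pow_iff_modEq.2 hm1
    have e2 : v ^ m = v ^ 0 := pow_eq_pow_iff_modEq.2 hm2
    rw [e1, e2, pow_one, pow_zero, mul_one]
  have hmv : ∃ m : ℕ, (u * v) ^ m = v := by
    obtain ⟨m, hm1, hm2⟩ := Nat.chineseRemainder hcop 0 1
    refine ⟨m, ?_⟩
    rw [hcomm.mul_pow]
    have e1 : u ^ m = u ^ 0 := pow_eq_pow_iff_modEq.2 hm1
    have e2 : v ^ m = v ^ 1 := pow_eq_pow_iff_modEq.2 hm2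
    rw [e1, e2, pow_one, pow_zero, one_mul]
  obtain ⟨m, hm⟩ := hmu
  obtain ⟨m', hm'⟩ := hmv
  have hnu : u ∈ normalizer (Q : Set K) := hm ▸ pow_mem hn m
  have hnv : v ∈ normalizer (Q : Set K) := hm' ▸ pow_mem hn m'
  have hR : Q ⊓ centralizer ({u} : Set K) = ⊥ := by
    refine h1 _ (hQ.to_le inf_le_left) (fun r hr => (mem_centralizer_singleton_iff.1 hr.2).symm) ?_
    have h3 : v ∈ normalizer ((centralizer ({u} : Set K) : Subgroup K) : Set K) :=
      le_normalizer (mem_centralizer_singleton_iff.2 huv.symm)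
    rw [mem_normalizer_iff] at hnv h3 ⊢
    intro y
    rw [mem_inf, mem_inf, hnv y, h3 y]
  have hfix : ∀ y ∈ Q, u * y = y * u → y = 1 := fun y hy hc => by
    have h3 : y ∈ Q ⊓ centralizer ({u} : Set K) := ⟨hy, mem_centralizer_singleton_iff.2 hc.symm⟩
    rwa [hR, mem_bot] at h3
  obtain ⟨k, hk⟩ := IsPGroup.iff_card.1 hQ
  have hdvd : p ^ k ∣ Nat.card K := hk ▸ Subgroup.card_subgroup_dvd_card Q
  have h3 := dvd_card_sub_one hu hnu hfix
  rw [hk] at h3
  rcases h2 k hdvd h3 with h4 | h4
  · rw [h4, pow_zero] at hk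
    exact Subgroup.card_eq_one.1 hk
  by_contra hbot
  -- the centre
  have hnt : Nontrivial Q := (Subgroup.nontrivial_iff_ne_bot Q).2 hbot
  have hZnt : Nontrivial (center Q) := hQ.center_nontrivial
  set Z : Subgroup K := (center Q).map Q.subtype with hZdef
  have hZQ : Z ≤ Q := by
    rintro _ ⟨z, -, rfl⟩
    exact z.2
  have hZu : u ∈ normalizer (Z : Set K) := by
    have key : ∀ n ∈ normalizer (Q : Set K), ∀ z ∈ Z, n * z * n⁻¹ ∈ Z := by
      rintro n hnn _ ⟨z, hz, rfl⟩
      refine ⟨⟨n * z * n⁻¹, (mem_normalizer_iff.1 hnn z).1 z.2⟩, ?_, rfl⟩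
      rw [SetLike.mem_coe, mem_center_iff]
      intro g
      apply Subtype.ext
      change (g : K) * (n * z * n⁻¹) = n * z * n⁻¹ * g
      have h5 : n⁻¹ * (g : K) * n ∈ Q := by
        have h6 := (mem_normalizer_iff.1 (inv_mem hnn) (g : K)).1 g.2
        rwa [inv_inv] at h6
      have h6 : (⟨n⁻¹ * (g : K) * n, h5⟩ : Q) * z = z * ⟨n⁻¹ * (g : K) * n, h5⟩ := mem_center_iff.1 hz _
      have h7 : n⁻¹ * (g : K) * n * z = z * (n⁻¹ * g * n) := congrArg Subtype.val h6
      calc (g : K) * (n * z * n⁻¹) = n * (n⁻¹ * (g : K) * n * z) * n⁻¹ := by group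
        _ = n * (z * (n⁻¹ * g * n)) * n⁻¹ := by rw [h7]
        _ = n * z * n⁻¹ * g := by group
    rw [mem_normalizer_iff]
    intro y
    refine ⟨key u hnu y, fun hy => ?_⟩
    have h5 := key u⁻¹ (inv_mem hnu) _ hy
    have h6 : u⁻¹ * (u * y * u⁻¹) * u⁻¹⁻¹ = y := by group
    rwa [h6] at h5
  have hZfix : ∀ y ∈ Z, u * y = y * u → y = 1 := fun y hy => hfix y (hZQ hy)
  have h5 := dvd_card_sub_one hu hZu hZfix
  have hZp : IsPGroup p Z := hQ.to_le hZQ
  obtain ⟨j, hj⟩ := IsPGroup.iff_card.1 hZp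
  have hjd : p ^ j ∣ Nat.card K := hj ▸ Subgroup.card_subgroup_dvd_card Z
  rw [hj] at h5
  have hZc : Nat.card Z = Nat.card (center Q) := Subgroup.card_map_of_injective Q.subtype_injective
  have hj0 : j ≠ 0 := by
    rintro rfl
    rw [pow_zero, hZc] at hj
    have := Finite.one_lt_card (α := ↥(center Q))
    omega
  have h6 : j = (Nat.card K).factorization p := (h2 j hjd h5).resolve_left hj0
  have h7 : Z = Q := Subgroup.eq_of_le_of_card_ge hZQ (by rw [hj, hk, h6, h4])
  have hab' : ∀ x ∈ Q, ∀ y ∈ Q, x * y = y * x := by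
    intro x hx y hy
    rw [← h7] at hy
    obtain ⟨z, hz, rfl⟩ := hy
    exact congrArg Subtype.val (mem_center_iff.1 hz ⟨x, hx⟩)
  -- `P` is conjugate to a subgroup of `Q`
  obtain ⟨P', hP'⟩ := hP.exists_le_sylow
  have hQc : Nat.card Q = p ^ (Nat.card K).factorization p := by rw [hk, h4]
  obtain ⟨g, hg⟩ := MulAction.exists_smul_eq K P' (Sylow.ofCard Q hQc)
  have h8 : ∀ x ∈ P, g * x * g⁻¹ ∈ Q := by
    intro x hx
    have h9 : MulAut.conj g x ∈ (g • P' : Sylow p K) := by
      rw [Sylow.smul_def]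
      exact smul_mem_pointwise_smul _ _ _ (hP' hx)
    rw [hg] at h9
    exact h9
  apply hab
  have h10 := hab' _ (h8 a ha) _ (h8 b hb)
  have h11 : g * (a * b) * g⁻¹ = g * (b * a) * g⁻¹ := by
    calc g * (a * b) * g⁻¹ = g * a * g⁻¹ * (g * b * g⁻¹) := by group
      _ = g * b * g⁻¹ * (g * a * g⁻¹) := h10
      _ = _ := by group
  exact mul_left_cancel (mul_right_cancel h11)

end Cfsg.Agent.H173.RS
end

-- part: H173/RS/HNFacts
section
/-!
# The centraliser of an element of order 7 of the Harada–Norton group (helper173)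
-/

set_option autoImplicit false

namespace Cfsg.Agent.H173.RS.HNRow

open Subgroup Cfsg.Agent.H173.RS Cfsg.Agent.H568
open Cfsg.Agent.HN.Pres Cfsg.Agent.HN.HS100 Cfsg.Agent.HN.P1408 Cfsg.Agent.HN.H0Basic
open Cfsg.Agent.KFacts.HN (emb)

/-! ### the centraliser in `H0` -/

theorem w7_pow : hw w7 ^ 7 = τ := by
  have h : hw (w7 ++ w7 ++ w7 ++ w7 ++ w7 ++ w7 ++ w7) = hw [0, 0] := hw_eq (by decide +kernel)
  rw [hw_append, hw_append, hw_append, hw_append, hw_append, hw_append, hw_τ] at h
  rw [← h]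
  simp only [pow_succ, pow_zero, one_mul, mul_assoc]

/-- the element of order 7 -/
def g7 : H0 := hw w7 ^ 2

theorem orderOf_g7 : orderOf g7 = 7 := by
  have : Fact (Nat.Prime 7) := ⟨by norm_num⟩
  refine orderOf_eq_prime ?_ ?_
  · rw [g7, ← pow_mul, mul_comm, pow_mul, w7_pow, pow_two, τ_mul_τ]
  · intro h
    have h1 : hw w7 ^ 7 = hw w7 := by
      have h2 : hw w7 ^ 7 = (hw w7 ^ 2) ^ 3 * hw w7 := by rw [← pow_mul, ← pow_succ]
      rw [h2]
      change g7 ^ 3 * hw w7 = hw w7
      rw [h, one_pow, one_mul]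
    have h2 : φ (hw w7) = 1 := by rw [← h1, w7_pow, φ_τ]
    have h3 := Cfsg.Agent.HN.Classes.φ_hw_apply w7 0
    rw [h2] at h3
    exact absurd h3 (by decide +kernel)

theorem card_centralizer_g7 : Nat.card (centralizer ({g7} : Set H0)) ≤ 28 := by
  refine le_trans (Subgroup.card_le_of_le ?_) card_centralizer_w7_le
  intro x hx
  rw [mem_centralizer_singleton_iff] at hx ⊢
  have h1 : Commute x g7 := hx
  have h2 : g7 ^ 4 * τ = hw w7 := by
    rw [g7, ← pow_mul, show 2 * 4 = 1 + 7 by norm_num, pow_add, w7_pow, pow_one, mul_assoc, τ_mul_τ, mul_one]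
  have h3 : Commute x (g7 ^ 4 * τ) := (h1.pow_right 4).mul_right (τ_comm x)
  rw [h2] at h3
  exact h3

theorem card_centralizer_H0 {h : H0} (hh : orderOf h = 7) : Nat.card (centralizer ({h} : Set H0)) ≤ 28 := by
  have : Fact (Nat.Prime 7) := ⟨by norm_num⟩
  have : Finite H0 := finite_H0
  have hfac : (Nat.card H0).factorization 7 = 1 := by
    rw [Cfsg.Agent.HN.H0Basic.card_H0, show (177408000 : ℕ) = 7 ^ 1 * 25344000 by norm_num, Nat.factorization_mul (by norm_num) (by norm_num),
      Nat.Prime.factorization_pow (by norm_num : Nat.Prime 7), Finsupp.add_apply,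
      Nat.factorization_eq_zero_of_not_dvd (show ¬ 7 ∣ 25344000 by norm_num), Finsupp.single_eq_same]
  let P : Sylow 7 H0 := Sylow.ofCard (zpowers h) (by rw [Nat.card_zpowers, hh, hfac, pow_one])
  let Q : Sylow 7 H0 := Sylow.ofCard (zpowers g7) (by rw [Nat.card_zpowers, orderOf_g7, hfac, pow_one])
  obtain ⟨c, hc⟩ := MulAction.exists_smul_eq H0 P Q
  have h1 : g7 ∈ (c • P : Sylow 7 H0) := by
    rw [hc]
    exact mem_zpowers g7
  rw [Sylow.smul_def] at h1
  obtain ⟨y, hy, hy'⟩ := h1
  obtain ⟨m, hm⟩ : y ∈ zpowers h := hy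
  have hy'' : c * y * c⁻¹ = g7 := hy'
  refine le_trans ?_ card_centralizer_g7
  refine Nat.card_le_card_of_injective (fun x : ↥(centralizer ({h} : Set H0)) =>
    (⟨c * x * c⁻¹, ?_⟩ : ↥(centralizer ({g7} : Set H0)))) ?_
  · rw [mem_centralizer_singleton_iff, ← hy'']
    have h2 : Commute (x : H0) h := mem_centralizer_singleton_iff.1 x.2
    have h3 : (x : H0) * y = y * x := by
      rw [← hm]
      exact (h2.zpow_right m).eq
    calc c * (x : H0) * c⁻¹ * (c * y * c⁻¹) = c * (x * y) * c⁻¹ := by group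
      _ = c * (y * x) * c⁻¹ := by rw [h3]
      _ = _ := by group
  · intro x x' h
    have h2 : c * (x : H0) * c⁻¹ = c * (x' : H0) * c⁻¹ := congrArg Subtype.val h
    exact Subtype.ext (mul_left_cancel (mul_right_cancel h2))

instance : Finite Cfsg.Spor.HN := Cfsg.Agent.KFacts.HN.finite_HN

theorem card_HN : Nat.card Cfsg.Spor.HN = 273030912000000 := Cfsg.Agent.S1701.result.2

/-- **`|C(i) ∩ C(u)| ≤ 28`.** -/
theorem card_inf_le {i u : Cfsg.Spor.HN} (hi : orderOf i = 2) (hu : orderOf u = 7) (hiu : i * u = u * i) :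
    Nat.card ↥(centralizer ({i} : Set Cfsg.Spor.HN) ⊓ centralizer ({u} : Set Cfsg.Spor.HN)) ≤ 28 := by
  have h7 : 7 ∣ Nat.card (centralizer ({i} : Set Cfsg.Spor.HN)) := by
    have h1 : u ∈ centralizer ({i} : Set Cfsg.Spor.HN) := mem_centralizer_singleton_iff.2 hiu.symm
    rw [← hu, ← Subgroup.orderOf_mk u h1]
    exact orderOf_dvd_natCard _
  rcases Cfsg.Agent.SigZeroHN.card_centralizer_cases hi with ⟨h, -⟩ | ⟨-, h⟩
  swap
  · rw [h] at h7
    exact absurd h7 (by norm_num)
  obtain ⟨g, hg⟩ := isConj_iff.1 h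
  have hcent : ∀ x : Cfsg.Spor.HN, x * i = i * x → ∃ y, Cfsg.Agent.HN.NormalH.ψ y = g * x * g⁻¹ := by
    intro x hx
    apply emb.cent
    rw [← hg]
    calc g * x * g⁻¹ * (g * i * g⁻¹) = g * (x * i) * g⁻¹ := by group
      _ = g * (i * x) * g⁻¹ := by rw [hx]
      _ = _ := by group
  obtain ⟨h, hh⟩ := hcent u hiu.symm
  have hho : orderOf h = 7 := by
    rw [← orderOf_injective _ emb.inj h, hh, ← hu]
    exact MulEquiv.orderOf_eq (MulAut.conj g) u
  refine le_trans ?_ (card_centralizer_H0 hho)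
  have hx1 : ∀ x : ↥(centralizer ({i} : Set Cfsg.Spor.HN) ⊓ centralizer ({u} : Set Cfsg.Spor.HN)),
      (x : Cfsg.Spor.HN) * i = i * x := fun x => mem_centralizer_singleton_iff.1 x.2.1
  choose F hF using fun x : ↥(centralizer ({i} : Set Cfsg.Spor.HN) ⊓ centralizer ({u} : Set Cfsg.Spor.HN)) =>
    hcent x (hx1 x)
  refine Nat.card_le_card_of_injective (fun x => (⟨F x, ?_⟩ : ↥(centralizer ({h} : Set H0)))) ?_
  · rw [mem_centralizer_singleton_iff]
    apply emb.inj
    rw [map_mul, map_mul, hF, hh]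
    have h2 : (x : Cfsg.Spor.HN) * u = u * x := mem_centralizer_singleton_iff.1 x.2.2
    calc g * (x : Cfsg.Spor.HN) * g⁻¹ * (g * u * g⁻¹) = g * (x * u) * g⁻¹ := by group
      _ = g * (u * x) * g⁻¹ := by rw [h2]
      _ = _ := by group
  · intro x x' hxx
    have h2 : F x = F x' := congrArg Subtype.val hxx
    have h3 : g * (x : Cfsg.Spor.HN) * g⁻¹ = g * (x' : Cfsg.Spor.HN) * g⁻¹ := by rw [← hF, ← hF, h2]
    exact Subtype.ext (mul_left_cancel (mul_right_cancel h3))

/-- the alternating subgroup -/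
theorem exists_hom : ∃ f : alternatingGroup (Fin 12) →* Cfsg.Spor.HN, Function.Injective f := by
  have := Cfsg.Agent.HN.Main.simple_HN
  obtain ⟨K, ⟨e⟩⟩ := Cfsg.Agent.HN.A12Group.exists_alternating
  exact ⟨K.subtype.comp e.symm.toMonoidHom, K.subtype_injective.comp e.symm.injective⟩

/-- noncommuting elements of a 3-subgroup -/
theorem exists_three : ∃ P : Subgroup Cfsg.Spor.HN, IsPGroup 3 P ∧ ∃ a ∈ P, ∃ b ∈ P, a * b ≠ b * a := by
  obtain ⟨f, hf⟩ := exists_hom
  obtain ⟨P, hP, a, ha, b, hb, hab⟩ := RS.exists_three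
  refine ⟨P.map f, hP.map f, f a, ⟨a, ha, rfl⟩, f b, ⟨b, hb, rfl⟩, fun h => hab (hf ?_)⟩
  rw [map_mul, map_mul, h]

theorem key {G : Type*} [Group G] {x y c : G} (h1 : x * y = y * x * c) (h2 : c * x = x * c) : x * y * x⁻¹ = y * c := by
  rw [h1, mul_assoc y x c, ← h2, mul_assoc, mul_assoc, mul_inv_cancel, mul_one]

/-- noncommuting elements of a 5-subgroup -/
theorem exists_five : ∃ P : Subgroup Cfsg.Spor.HN, IsPGroup 5 P ∧ ∃ a ∈ P, ∃ b ∈ P, a * b ≠ b * a := by
  have : Fact (Nat.Prime 5) := ⟨Nat.prime_five⟩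
  obtain ⟨P, hP, ha, hb⟩ := exists_pgroup (p := 5) Cfsg.Agent.BiChar.HNFive.hwy5 Cfsg.Agent.BiChar.HNFive.hwx5
    Cfsg.Agent.BiChar.HNFive.hwc5 Cfsg.Agent.BiChar.HNFive.hcy.symm Cfsg.Agent.BiChar.HNFive.hcx.symm
    (key Cfsg.Agent.BiChar.HNFive.hxy Cfsg.Agent.BiChar.HNFive.hcx)
  refine ⟨P.map Cfsg.Agent.HN.NormalH.ψ, hP.map _, _, ⟨_, hb, rfl⟩, _, ⟨_, ha, rfl⟩, fun h =>
    Cfsg.Agent.BiChar.HNFive.hne (emb.inj ?_)⟩
  rw [map_mul, map_mul, h]

end Cfsg.Agent.H173.RS.HNRow
end

private theorem dce_40c48d451a93 : _root_.True := by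
  try have : _root_.True := by simp only [_root_.Cfsg.Agent.H173.RS.HNRow.g7.eq_1]
  exact _root_.True.intro
end

-- part: H173/RS/HN
section
set_option linter.all false
open scoped Cfsg.Agent.FastGrp

/-!
# S4329: the row of the Harada–Norton group (helper173)

`C(u) / ⟨u⟩ ≅ A₅` for an element `u` of order 7; hence `u v` (`v` of order 5, 3) normalises no 3-subgroup, 5-subgroup.
-/

set_option autoImplicit false

namespace Cfsg.Agent.H173.RS.HNRow

open Subgroup Cfsg.Agent.H173.RS Cfsg.Agent.H568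

/-- the embedding of `A₁₂` -/
noncomputable def f : A12 →* Cfsg.Spor.HN :=
  exists_hom.choose.comp (Equiv.altCongrHom (finSumFinEquiv : Fin 7 ⊕ Fin 5 ≃ Fin 12)).toMonoidHom

theorem f_inj : Function.Injective f :=
  exists_hom.choose_spec.comp (Equiv.altCongrHom (finSumFinEquiv : Fin 7 ⊕ Fin 5 ≃ Fin 12)).injective

/-- the element of order 7 -/
noncomputable def u : Cfsg.Spor.HN := f c7

theorem orderOf_u : orderOf u = 7 := by rw [u, orderOf_injective f f_inj, orderOf_c7]

/-- its centraliser -/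
noncomputable abbrev X : Subgroup Cfsg.Spor.HN := centralizer ({u} : Set Cfsg.Spor.HN)

theorem u_mem : u ∈ X := mem_centralizer_singleton_iff.2 rfl

/-- the subgroup generated by `u` -/
noncomputable def U : Subgroup X := zpowers ⟨u, u_mem⟩

theorem card_U : Nat.card U = 7 := by rw [U, Nat.card_zpowers, Subgroup.orderOf_mk, orderOf_u]

theorem U_comm (x : X) {w : X} (hw : w ∈ U) : x * w = w * x := by
  obtain ⟨m, rfl⟩ := hw
  have h : Commute x (⟨u, u_mem⟩ : X) := Subtype.ext (mem_centralizer_singleton_iff.1 x.2)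
  exact (h.zpow_right m).eq

theorem U_pow {w : X} (hw : w ∈ U) : w ^ 7 = 1 := by
  have h := orderOf_dvd_natCard (⟨w, hw⟩ : U)
  rw [card_U] at h
  exact congrArg Subtype.val (orderOf_dvd_iff_pow_eq_one.1 h)

instance : U.Normal := ⟨fun w hw x => by
  rw [U_comm x hw, mul_inv_cancel_right]
  exact hw⟩

/-- the homomorphism of `A₅` to the centraliser -/
noncomputable def g0 : A5 →* X := (f.comp e5).codRestrict X (fun σ => mem_centralizer_singleton_iff.2 (by
  change f (e5 σ) * f c7 = f c7 * f (e5 σ)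
  rw [← map_mul, ← map_mul, c7_comm]))

theorem g0_inj : Function.Injective g0 := fun _ _ h => e5_injective (f_inj (congrArg Subtype.val h))

/-- the homomorphism to the factor group -/
noncomputable def g : A5 →* X ⧸ U := (QuotientGroup.mk' U).comp g0

theorem g_inj : Function.Injective g := by
  rw [injective_iff_map_eq_one]
  intro σ hσ
  have h1 : g0 σ ∈ U := (QuotientGroup.eq_one_iff _).1 hσ
  have h2 : g0 (σ ^ 7) = 1 := by rw [map_pow, U_pow h1]
  have h3 : σ ^ 7 = 1 := g0_inj (by rw [h2, map_one])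
  have h4 : orderOf σ ∣ Nat.gcd 7 60 := Nat.dvd_gcd (orderOf_dvd_of_pow_eq_one h3) (card_A5 ▸ orderOf_dvd_natCard σ)
  rw [show Nat.gcd 7 60 = 1 by norm_num, Nat.dvd_one, orderOf_eq_one_iff] at h4
  exact h4

theorem mk_eq_one {x : X} : (QuotientGroup.mk' U) x = 1 ↔ x ∈ U := QuotientGroup.eq_one_iff x

/-- the centralisers of the involutions of the factor group -/
theorem card_cent {i : X ⧸ U} (hi : orderOf i = 2) : Nat.card (centralizer ({i} : Set (X ⧸ U))) ≤ 4 := by
  obtain ⟨x, rfl⟩ := QuotientGroup.mk'_surjective U i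
  have hx2 : x ^ 2 ∈ U := by
    rw [← mk_eq_one, map_pow, ← hi, pow_orderOf_eq_one]
  set y := x ^ 7 with hy
  have hy2 : y ^ 2 = 1 := by rw [hy, ← pow_mul, mul_comm, pow_mul, U_pow hx2]
  have hyx : (QuotientGroup.mk' U) y = (QuotientGroup.mk' U) x := by
    have h1 : ((QuotientGroup.mk' U) x) ^ 2 = 1 := by rw [← hi, pow_orderOf_eq_one]
    rw [hy, map_pow, show 7 = 2 * 3 + 1 by norm_num, pow_add, pow_mul, h1, one_pow, one_mul, pow_one]
  rw [← hyx] at hi ⊢
  have hy1 : y ≠ 1 := by
    intro h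
    rw [h, map_one, orderOf_one] at hi
    omega
  have hyo : orderOf y = 2 := orderOf_eq_prime hy2 hy1
  have hyo' : orderOf (y : Cfsg.Spor.HN) = 2 := by rw [Subgroup.orderOf_coe, hyo]
  -- the preimage
  set C := (centralizer ({(QuotientGroup.mk' U) y} : Set (X ⧸ U))).comap (QuotientGroup.mk' U) with hC
  have h1 : ∀ z ∈ C, z * y = y * z := by
    intro z hz
    rw [hC, mem_comap, mem_centralizer_singleton_iff, ← map_mul, ← map_mul] at hz
    have h2 : (y * z)⁻¹ * (z * y) ∈ U := by
      rw [← mk_eq_one, map_mul, hz, ← map_mul, inv_mul_cancel, map_one]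
    set w := (y * z)⁻¹ * (z * y) with hw
    have h3 : z * y = y * z * w := by rw [hw, mul_inv_cancel_left]
    have h4 : z * y * z⁻¹ = y * w := by
      rw [h3, mul_assoc y z w, U_comm z h2, mul_assoc, mul_assoc, mul_inv_cancel, mul_one]
    have h5 : (y * w) ^ 2 = 1 := by
      rw [← h4]
      calc (z * y * z⁻¹) ^ 2 = z * y ^ 2 * z⁻¹ := by rw [pow_two, pow_two]; group
        _ = 1 := by rw [hy2, mul_one, mul_inv_cancel]
    have h6 : Commute y w := U_comm y h2
    rw [h6.mul_pow, hy2, one_mul] at h5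
    have h7 : w = 1 := by
      have h8 : orderOf w ∣ Nat.gcd 2 7 := Nat.dvd_gcd (orderOf_dvd_of_pow_eq_one h5) (orderOf_dvd_of_pow_eq_one (U_pow h2))
      rw [show Nat.gcd 2 7 = 1 by norm_num, Nat.dvd_one, orderOf_eq_one_iff] at h8
      exact h8
    rw [h3, h7, mul_one]
  have h2 : Nat.card C ≤ 28 := by
    refine le_trans ?_ (card_inf_le hyo' orderOf_u (mem_centralizer_singleton_iff.1 y.2))
    refine Nat.card_le_card_of_injective (fun z : ↥C => (⟨((z : X) : Cfsg.Spor.HN),
      mem_centralizer_singleton_iff.2 (congrArg Subtype.val (h1 z z.2)), (z : X).2⟩ :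
        ↥(centralizer ({(y : Cfsg.Spor.HN)} : Set Cfsg.Spor.HN) ⊓ centralizer ({u} : Set Cfsg.Spor.HN)))) ?_
    intro z z' h
    have h2 := congrArg (fun t : ↥(centralizer ({(y : Cfsg.Spor.HN)} : Set Cfsg.Spor.HN) ⊓
      centralizer ({u} : Set Cfsg.Spor.HN)) => (t : Cfsg.Spor.HN)) h
    exact Subtype.ext (Subtype.ext h2)
  have h3 : Nat.card C = 7 * Nat.card (centralizer ({(QuotientGroup.mk' U) y} : Set (X ⧸ U))) := by
    have h4 : Nat.card C * C.index = Nat.card X := C.card_mul_index
    have h5 : C.index = (centralizer ({(QuotientGroup.mk' U) y} : Set (X ⧸ U))).index :=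
      Subgroup.index_comap_of_surjective _ (QuotientGroup.mk'_surjective U)
    have h6 := (centralizer ({(QuotientGroup.mk' U) y} : Set (X ⧸ U))).card_mul_index
    have h7 := Subgroup.card_eq_card_quotient_mul_card_subgroup U
    rw [card_U, ← h6] at h7
    rw [h5, h7] at h4
    have h8 : (centralizer ({(QuotientGroup.mk' U) y} : Set (X ⧸ U))).index ≠ 0 := Subgroup.index_ne_zero_of_finite
    have h9 : Nat.card C * (centralizer ({(QuotientGroup.mk' U) y} : Set (X ⧸ U))).index =
        (7 * Nat.card (centralizer ({(QuotientGroup.mk' U) y} : Set (X ⧸ U)))) *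
          (centralizer ({(QuotientGroup.mk' U) y} : Set (X ⧸ U))).index := by
      rw [h4]; ring
    exact Nat.eq_of_mul_eq_mul_right (Nat.pos_of_ne_zero h8) h9
  omega

theorem g_surj : Function.Surjective g := surjective_of_small g g_inj fun _ hi => card_cent hi

/-- `|C(u)| = 420` -/
theorem card_X : Nat.card X = 420 := by
  have h7 := Subgroup.card_eq_card_quotient_mul_card_subgroup U
  rw [card_U, ← Nat.card_congr (Equiv.ofBijective g ⟨g_inj, g_surj⟩), card_A5] at h7
  exact h7

/-- no element of order 15 -/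
theorem no_fifteen {x : Cfsg.Spor.HN} (hx : u * x = x * u) : orderOf x ≠ 15 := by
  intro h
  have hxX : x ∈ X := mem_centralizer_singleton_iff.2 hx.symm
  obtain ⟨σ, hσ⟩ := g_surj ((QuotientGroup.mk' U) ⟨x, hxX⟩)
  have h1 : orderOf σ = 15 := by
    rw [← orderOf_injective g g_inj σ, hσ]
    apply Nat.dvd_antisymm
    · rw [← h, ← Subgroup.orderOf_mk x hxX]
      exact orderOf_map_dvd _ _
    · have h2 : ((QuotientGroup.mk' U) ⟨x, hxX⟩) ^ orderOf ((QuotientGroup.mk' U) ⟨x, hxX⟩) = 1 := pow_orderOf_eq_one _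
      set n := orderOf ((QuotientGroup.mk' U) ⟨x, hxX⟩)
      rw [← map_pow, mk_eq_one] at h2
      have h3 := U_pow h2
      rw [← pow_mul] at h3
      have h4 : 15 ∣ n * 7 := by
        rw [← h, ← Subgroup.orderOf_mk x hxX]
        exact orderOf_dvd_of_pow_eq_one h3
      omega
  have h2 := odd_le (zpowers σ) (by rw [Nat.card_zpowers, h1]; decide)
  rw [Nat.card_zpowers, h1] at h2
  omega

/-- the 3- and 5-subgroups of `C(u)` normalised by an element of order 5, 3 -/
theorem eq_bot_of {p q : ℕ} [hp : Fact p.Prime] [hq : Fact q.Prime] (hpq : p * q = 15) {v : Cfsg.Spor.HN}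
    (hv : orderOf v = q) (hvu : u * v = v * u) {R : Subgroup Cfsg.Spor.HN} (hR : IsPGroup p R)
    (hRu : ∀ r ∈ R, u * r = r * u) (hvR : v ∈ normalizer (R : Set Cfsg.Spor.HN)) : R = ⊥ := by
  have hne : p ≠ q := by
    rintro rfl
    have h : p ≤ 3 := by nlinarith
    interval_cases p <;> omega
  have hfix : ∀ y ∈ R, v * y = y * v → y = 1 := by
    intro y hy hvy
    by_contra hy1
    -- a power of `y` of order `p`
    obtain ⟨k, hk⟩ := hR ⟨y, hy⟩
    have hk' : y ^ p ^ k = 1 := congrArg Subtype.val hk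
    obtain ⟨z, hz, hz2⟩ : ∃ z ∈ zpowers y, orderOf z = p := by
      obtain ⟨j, -, hj⟩ := (Nat.dvd_prime_pow hp.1).1 (orderOf_dvd_of_pow_eq_one hk')
      have hj0 : j ≠ 0 := by
        rintro rfl
        rw [pow_zero, orderOf_eq_one_iff] at hj
        exact hy1 hj
      have h1 : p ∣ Nat.card (zpowers y) := by
        rw [Nat.card_zpowers, hj]
        exact dvd_pow_self p hj0
      obtain ⟨z, hz⟩ := exists_prime_orderOf_dvd_card' p h1
      exact ⟨z, z.2, by rw [Subgroup.orderOf_coe, hz]⟩
    obtain ⟨m, rfl⟩ := hz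
    have h1 : Commute v (y ^ m) := (show Commute v y from hvy).zpow_right m
    have h2 : Commute u (y ^ m) := (show Commute u y from hRu y hy).zpow_right m
    have hcop : Nat.Coprime (orderOf v) (orderOf (y ^ m)) := by
      rw [hv]
      change Nat.Coprime q (orderOf ((fun x => y ^ x) m))
      rw [hz2]
      exact (Nat.coprime_primes hq.1 hp.1).2 hne.symm
    have h3 : orderOf (v * y ^ m) = 15 := by
      rw [h1.orderOf_mul_eq_mul_orderOf_of_coprime hcop, hv, ← hpq, mul_comm]
      congr 1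
    exact no_fifteen ((show Commute u v from hvu).mul_right h2).eq h3
  have h1 := dvd_card_sub_one hv hvR hfix
  obtain ⟨k, hk⟩ := IsPGroup.iff_card.1 hR
  have h2 : Nat.card R ∣ 420 := by
    rw [← card_X]
    exact Subgroup.card_dvd_of_le fun r hr => mem_centralizer_singleton_iff.2 (hRu r hr).symm
  rw [hk] at h1 h2
  have hp15 : p ∣ 15 := Dvd.intro _ hpq
  have h3 : p = 3 ∨ p = 5 := by
    have h4 : p ∣ 3 * 5 := hp15
    rcases hp.1.dvd_mul.1 h4 with h | h
    · exact Or.inl ((Nat.prime_dvd_prime_iff_eq hp.1 Nat.prime_three).1 h)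
    · exact Or.inr ((Nat.prime_dvd_prime_iff_eq hp.1 Nat.prime_five).1 h)
  have h4 : k = 0 := by
    by_contra hk0
    have h5 : k = 1 := by
      by_contra hk1
      have h6 : p ^ 2 ∣ 420 := (pow_dvd_pow p (by omega)).trans h2
      rcases h3 with rfl | rfl <;> revert h6 <;> decide
    rw [h5, pow_one] at h1
    rcases h3 with rfl | rfl
    · have h6 : q = 5 := by omega
      rw [h6] at h1
      revert h1; decide
    · have h6 : q = 3 := by omega
      rw [h6] at h1
      revert h1; decide
  rw [h4, pow_zero] at hk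
  exact Subgroup.card_eq_one.1 hk

theorem fac {p : ℕ} (hp : p = 3 ∨ p = 5) : (Nat.card Cfsg.Spor.HN).factorization p = 6 := by
  rw [card_HN]
  rcases hp with rfl | rfl
  · rw [show (273030912000000 : ℕ) = 3 ^ 6 * 374528000000 by norm_num, Nat.factorization_mul (by norm_num) (by norm_num),
      Nat.Prime.factorization_pow Nat.prime_three, Finsupp.add_apply,
      Nat.factorization_eq_zero_of_not_dvd (show ¬ 3 ∣ 374528000000 by norm_num), Finsupp.single_eq_same]
  · rw [show (273030912000000 : ℕ) = 5 ^ 6 * 17473978368 by norm_num, Nat.factorization_mul (by norm_num) (by norm_num),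
      Nat.Prime.factorization_pow Nat.prime_five, Finsupp.add_apply,
      Nat.factorization_eq_zero_of_not_dvd (show ¬ 5 ∣ 17473978368 by norm_num), Finsupp.single_eq_same]

theorem hpow {p : ℕ} (hp : p = 3 ∨ p = 5) (k : ℕ) (h1 : p ^ k ∣ Nat.card Cfsg.Spor.HN) (h2 : 7 ∣ p ^ k - 1) :
    k = 0 ∨ k = (Nat.card Cfsg.Spor.HN).factorization p := by
  have hpp : p.Prime := by rcases hp with rfl | rfl <;> norm_num
  rw [fac hp]
  have h3 : k ≤ 6 := by
    rw [← fac hp]
    exact (hpp.pow_dvd_iff_le_factorization Nat.card_pos.ne').1 h1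
  rcases hp with rfl | rfl <;> interval_cases k <;> revert h2 <;> decide

/-- **an element normalising no 3-subgroup, 5-subgroup** -/
theorem exists_noNorm {p : ℕ} [hp : Fact p.Prime] (h : p = 3 ∨ p = 5) : ∃ x : Cfsg.Spor.HN, NoNorm p x := by
  have h7 : Fact (Nat.Prime 7) := ⟨by norm_num⟩
  have key : ∀ q : ℕ, q.Prime → p * q = 15 → (∃ P : Subgroup Cfsg.Spor.HN, IsPGroup p P ∧ ∃ a ∈ P, ∃ b ∈ P, a * b ≠ b * a) →
      ∃ x : Cfsg.Spor.HN, NoNorm p x := by
    rintro q hq hpq ⟨P, hP, a, ha, b, hb, hab⟩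
    have : Fact q.Prime := ⟨hq⟩
    have h15 : q ∣ 15 := Dvd.intro_left _ hpq
    obtain ⟨σ, hσ⟩ : ∃ σ : A5, orderOf σ = q :=
      exists_prime_orderOf_dvd_card' q (by rw [card_A5]; exact h15.trans (by norm_num))
    have hv : orderOf (f (e5 σ)) = q := by rw [orderOf_injective f f_inj, orderOf_injective e5 e5_injective, hσ]
    have huv : u * f (e5 σ) = f (e5 σ) * u := by rw [u, ← map_mul, ← map_mul, c7_comm]
    refine ⟨u * f (e5 σ), noNorm_mul (l := 7) orderOf_u huv ?_ ?_ (hpow h) hP ha hb hab⟩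
    · rw [orderOf_u, hv]
      refine (Nat.coprime_primes (by norm_num) hq).2 ?_
      rintro rfl
      revert h15; decide
    · intro R hR hRu hvR
      exact eq_bot_of hpq hv huv hR hRu hvR
  rcases h with rfl | rfl
  · exact key 5 (by norm_num) (by norm_num) exists_three
  · exact key 3 (by norm_num) (by norm_num) exists_five

/-- automorphisms of odd order are inner -/
theorem inner_of_odd {a : MulAut Cfsg.Spor.HN} (ha : Odd (orderOf a)) : ∃ s : Cfsg.Spor.HN, a = MulAut.conj s := by
  have hn : (MulAut.conj : Cfsg.Spor.HN →* MulAut Cfsg.Spor.HN).range.Normal := by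
    constructor
    rintro _ ⟨x, rfl⟩ b
    refine ⟨b x, ?_⟩
    ext y
    simp [MulAut.mul_apply, MulAut.conj_apply]
  have h2 : a ^ 2 ∈ (MulAut.conj : Cfsg.Spor.HN →* MulAut Cfsg.Spor.HN).range := by
    have h3 := Subgroup.pow_index_mem (MulAut.conj : Cfsg.Spor.HN →* MulAut Cfsg.Spor.HN).range a
    rcases Cfsg.Agent.KFacts.HN.out_index with h | h
    · rw [h, pow_one] at h3
      exact pow_mem h3 2
    · rwa [h] at h3
  obtain ⟨s, hs⟩ := h2
  obtain ⟨k, hk⟩ := ha
  refine ⟨s ^ (k + 1), ?_⟩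
  rw [map_pow, hs, ← pow_mul, show 2 * (k + 1) = (2 * k + 1) + 1 by ring, pow_succ, ← hk, pow_orderOf_eq_one, one_mul]

/-- **S4329 for HN.** -/
theorem row_model (p : ℕ) [hp : Fact p.Prime] (hp2 : p ≠ 2) : Row p Cfsg.Spor.HN := by
  have := Cfsg.Agent.HN.Main.simple_HN
  have hna : ¬ IsMulCommutative Cfsg.Spor.HN := by
    intro h
    obtain ⟨P, -, a, -, b, -, hab⟩ := exists_three
    exact hab (h.is_comm.comm a b)
  refine row_of hna fun a ha => ?_
  have hinn : ∃ s : Cfsg.Spor.HN, a = MulAut.conj s := inner_of_odd (by rw [ha]; exact hp.1.odd_of_ne_two hp2)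
  by_cases h35 : p = 3 ∨ p = 5
  · exact Or.inr (Or.inl ⟨hinn, exists_noNorm h35⟩)
  · refine Or.inl ⟨hinn, default, ?_⟩
    have h1 : ¬ p ^ 2 ∣ Nat.card Cfsg.Spor.HN := by
      intro h
      have h2 : p ∣ Nat.card Cfsg.Spor.HN := (dvd_pow_self p two_ne_zero).trans h
      rw [card_HN] at h h2
      have h3 : p ∣ 2 ^ 14 * (3 ^ 6 * (5 ^ 6 * (7 * (11 * 19)))) := by
        have : (2 ^ 14 * (3 ^ 6 * (5 ^ 6 * (7 * (11 * 19)))) : ℕ) = 273030912000000 := by norm_num
        rw [this]; exact h2
      push Not at h35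
      have h4 : p = 7 ∨ p = 11 ∨ p = 19 := by
        rcases hp.1.dvd_mul.1 h3 with h5 | h5
        · exact absurd ((Nat.prime_dvd_prime_iff_eq hp.1 Nat.prime_two).1 (hp.1.dvd_of_dvd_pow h5)) hp2
        rcases hp.1.dvd_mul.1 h5 with h5 | h5
        · exact absurd ((Nat.prime_dvd_prime_iff_eq hp.1 Nat.prime_three).1 (hp.1.dvd_of_dvd_pow h5)) h35.1
        rcases hp.1.dvd_mul.1 h5 with h5 | h5
        · exact absurd ((Nat.prime_dvd_prime_iff_eq hp.1 Nat.prime_five).1 (hp.1.dvd_of_dvd_pow h5)) h35.2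
        rcases hp.1.dvd_mul.1 h5 with h5 | h5
        · exact Or.inl ((Nat.prime_dvd_prime_iff_eq hp.1 (by norm_num)).1 h5)
        rcases hp.1.dvd_mul.1 h5 with h5 | h5
        · exact Or.inr (Or.inl ((Nat.prime_dvd_prime_iff_eq hp.1 (by norm_num)).1 h5))
        · exact Or.inr (Or.inr ((Nat.prime_dvd_prime_iff_eq hp.1 (by norm_num)).1 h5))
      rcases h4 with rfl | rfl | rfl <;> revert h <;> norm_num
    obtain ⟨n, hn⟩ := IsPGroup.iff_card.1 (default : Sylow p Cfsg.Spor.HN).isPGroup'
    have hn1 : n ≤ 1 := by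
      by_contra hcon
      exact h1 ((pow_dvd_pow p (by omega : 2 ≤ n)).trans (hn ▸ Subgroup.card_subgroup_dvd_card _))
    interval_cases n
    · rw [pow_zero] at hn
      have : Subsingleton ↥((default : Sylow p Cfsg.Spor.HN) : Subgroup Cfsg.Spor.HN) :=
        (Nat.card_eq_one_iff_unique.1 hn).1
      exact isCyclic_of_subsingleton
    · rw [pow_one] at hn
      exact isCyclic_of_prime_card hn

theorem row_hn (K : Type*) [Group K] [Finite K] [IsSimpleGroup K] (h : Cfsg.Spor.IsoHN K) (p : ℕ) [Fact p.Prime]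
    (hp : p ≠ 2) : Row p K :=
  h.elim fun e => (row_model p hp).congr e.symm

end Cfsg.Agent.H173.RS.HNRow

private theorem dce_1dd2cf259b25 : _root_.True := by
  try have : _root_.True := by simp only [_root_.Cfsg.Agent.H173.RS.HNRow.u.eq_1]
  try have : _root_.True := by simp only [_root_.Cfsg.Agent.H173.RS.HNRow.U.eq_1]
  exact _root_.True.intro
end
end
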